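import Cfsg.Agent.Lib.J1.Cent11Data

/-!
Verification of the centralizer data of an element of order 11.
-/

set_option autoImplicit false

namespace CfsgLib.J1

theorem cent11_goodU : cent11.GoodU := by decide +kernel
theorem cent11_goodCl : cent11.GoodCl := by decide +kernel
theorem cent11_goodJ : cent11.GoodJ := by decide +kernel
theorem cent11_goodC : cent11.GoodC := by decide +kernel

theorem cent11_good : cent11.Good := ⟨cent11_goodU, cent11_goodCl, cent11_goodJ, cent11_goodC⟩

end CfsgLib.J1
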