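import Cfsg.Agent.Lib.J1.Cent19Data

/-!
Verification of the centralizer data of an element of order 19.
-/

set_option autoImplicit false

namespace CfsgLib.J1

theorem cent19_goodU : cent19.GoodU := by decide +kernel
theorem cent19_goodCl : cent19.GoodCl := by decide +kernel
theorem cent19_goodJ : cent19.GoodJ := by decide +kernel
theorem cent19_goodC : cent19.GoodC := by decide +kernel

theorem cent19_good : cent19.Good := ⟨cent19_goodU, cent19_goodCl, cent19_goodJ, cent19_goodC⟩

end CfsgLib.J1
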