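import Cfsg.Agent.Lib.J1.Cent2Data

/-!
Verification of the centralizer data of an element of order 2.
-/

set_option autoImplicit false

namespace CfsgLib.J1

theorem cent2_goodU : cent2.GoodU := by decide +kernel
theorem cent2_goodCl : cent2.GoodCl := by decide +kernel
theorem cent2_goodJ : cent2.GoodJ := by decide +kernel
theorem cent2_goodC : cent2.GoodC := by decide +kernel

theorem cent2_good : cent2.Good := ⟨cent2_goodU, cent2_goodCl, cent2_goodJ, cent2_goodC⟩

end CfsgLib.J1
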