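import Cfsg.Agent.Lib.J1.Cent3Data

/-!
Verification of the centralizer data of an element of order 3.
-/

set_option autoImplicit false

namespace CfsgLib.J1

theorem cent3_goodU : cent3.GoodU := by decide +kernel
theorem cent3_goodCl : cent3.GoodCl := by decide +kernel
theorem cent3_goodJ : cent3.GoodJ := by decide +kernel
theorem cent3_goodC : cent3.GoodC := by decide +kernel

theorem cent3_good : cent3.Good := ⟨cent3_goodU, cent3_goodCl, cent3_goodJ, cent3_goodC⟩

end CfsgLib.J1
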