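import Cfsg.Agent.Lib.J1.Cent5Data

/-!
Verification of the centralizer data of an element of order 5.
-/

set_option autoImplicit false

namespace CfsgLib.J1

theorem cent5_goodU : cent5.GoodU := by decide +kernel
theorem cent5_goodCl : cent5.GoodCl := by decide +kernel
theorem cent5_goodJ : cent5.GoodJ := by decide +kernel
theorem cent5_goodC : cent5.GoodC := by decide +kernel

theorem cent5_good : cent5.Good := ⟨cent5_goodU, cent5_goodCl, cent5_goodJ, cent5_goodC⟩

end CfsgLib.J1
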