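import Cfsg.Agent.Lib.J1.Cent7Data

/-!
Verification of the centralizer data of an element of order 7.
-/

set_option autoImplicit false

namespace CfsgLib.J1

theorem cent7_goodU : cent7.GoodU := by decide +kernel
theorem cent7_goodCl : cent7.GoodCl := by decide +kernel
theorem cent7_goodJ : cent7.GoodJ := by decide +kernel
theorem cent7_goodC : cent7.GoodC := by decide +kernel

theorem cent7_good : cent7.Good := ⟨cent7_goodU, cent7_goodCl, cent7_goodJ, cent7_goodC⟩

end CfsgLib.J1
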