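import Cfsg.Agent.Lib.J1.Data

/-!
Format and consistency conditions of a certified centralizer list.
-/

set_option autoImplicit false

namespace CfsgLib.J1

def hCode (i : ℕ) : ℕ := get 196 hTab i
def hMulA (i : ℕ) : ℕ := get 16 hTabA i
def hMulB (i : ℕ) : ℕ := get 16 hTabB i
def hParent (i : ℕ) : ℕ := get 32 hTabPar i % 2 ^ 16
def hBit (i : ℕ) : ℕ := get 32 hTabPar i / 2 ^ 16
def tCode (j : ℕ) : ℕ := get 196 tTab j
def tTrCode (j : ℕ) : ℕ := get 196 tTabTr j
def tParent (j : ℕ) : ℕ := get 32 tTabPar j % 2 ^ 16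
def tBit (j : ℕ) : ℕ := get 32 tTabPar j / 2 ^ 16
def tProd (k : ℕ) : ℕ := get 196 tTabProd k
def tH (k : ℕ) : ℕ := get 16 tTabH k
def tNext (k : ℕ) : ℕ := get 16 tTabNext k

/-- Data certifying the centralizer of one element. -/
structure CentData where
  /-- the element -/
  g : ℕ
  /-- the number of conjugates under the subgroup of order 660 -/
  nU : ℕ
  /-- the size of the centralizer -/
  nC : ℕ
  /-- the conjugates -/
  u : ℕ
  /-- action of the first generator -/
  ua : ℕ
  /-- action of the second generator -/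
  ub : ℕ
  /-- products with the first generator -/
  pa : ℕ
  /-- products with the second generator -/
  pb : ℕ
  /-- the conjugate belonging to each element -/
  cl : ℕ
  /-- first partial products -/
  r1 : ℕ
  /-- second partial products -/
  r2 : ℕ
  /-- matching conjugate -/
  m : ℕ
  /-- pairs -/
  pr : ℕ
  /-- centralizer elements -/
  cs : ℕ
  /-- their orders -/
  os : ℕ
  /-- their powers -/
  pw : ℕ
  /-- position of the identity -/
  one : ℕ
  /-- position of the element -/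
  self : ℕ

namespace CentData

variable (D : CentData)

def U (k : ℕ) : ℕ := get 196 D.u k
def C (k : ℕ) : ℕ := get 196 D.cs k
def ord (k : ℕ) : ℕ := get 16 D.os k
def power (k e : ℕ) : ℕ := get 16 D.pw (20 * k + e)
def prH (k : ℕ) : ℕ := get 32 D.pr k % 2 ^ 16
def prT (k : ℕ) : ℕ := get 32 D.pr k / 2 ^ 16

/-- Conjugates are closed under the generators. -/
def GoodU : Prop := ∀ k : Fin D.nU,
  get 16 D.ua k < D.nU ∧ get 16 D.ub k < D.nU ∧
    ok codeA (D.U (get 16 D.ua k)) (get 196 D.pa k) ∧ ok (D.U k) codeA (get 196 D.pa k) ∧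
    ok codeB (D.U (get 16 D.ub k)) (get 196 D.pb k) ∧ ok (D.U k) codeB (get 196 D.pb k)

/-- The assignment of conjugates, listed in increasing order. -/
def GoodCl : Prop := get 16 D.cl 0 < D.nU ∧ 0 < D.nU ∧ D.U (get 16 D.cl 0) = D.g ∧ Canon D.g ∧
  (∀ k : Fin D.nU, Canon (D.U k) ∧ (k.val + 1 < D.nU → D.U k < D.U (k.val + 1))) ∧ ∀ h : Fin 660, get 16 D.cl h < D.nU ∧
    get 16 D.cl (hMulA h) = get 16 D.ua (get 16 D.cl h) ∧
    get 16 D.cl (hMulB h) = get 16 D.ub (get 16 D.cl h)

/-- The coset scan. -/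
def GoodJ : Prop := ∀ j : Fin 266,
  ok (tCode j) D.g (get 196 D.r1 j) ∧ ok (get 196 D.r1 j) (tTrCode j) (get 196 D.r2 j) ∧
    ((get 16 D.m j < D.nU ∧ D.U (get 16 D.m j) = get 196 D.r2 j) ∨
      (D.nU < get 16 D.m j ∧ get 16 D.m j ≤ 2 * D.nU + 1 ∧
        (get 16 D.m j = D.nU + 1 ∨ D.U (get 16 D.m j - D.nU - 2) < get 196 D.r2 j) ∧
        (get 16 D.m j = 2 * D.nU + 1 ∨ get 196 D.r2 j < D.U (get 16 D.m j - D.nU - 1)))) ∧
    (get 16 D.m j < D.nU → ∀ h : Fin 660, get 16 D.cl h = get 16 D.m j →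
      ∃ k : Fin D.nC, get 32 D.pr k = h.val + 2 ^ 16 * j.val)

/-- The listed elements. -/
def GoodC : Prop := D.one < D.nC ∧ D.self < D.nC ∧ D.C D.one = oneCode ∧ D.C D.self = D.g ∧
  ∀ k : Fin D.nC, D.prH k < 660 ∧ D.prT k < 266 ∧ ok (hCode (D.prH k)) (tCode (D.prT k)) (D.C k) ∧
    D.power k 0 = D.one ∧ 0 < D.ord k ∧ D.ord k < 20 ∧ D.power k (D.ord k) = D.one ∧
    ∀ e : Fin 20, e.val < D.ord k →
      D.power k (e + 1) < D.nC ∧ ok (D.C (D.power k e)) (D.C k) (D.C (D.power k (e + 1)))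

instance : Decidable D.GoodU := by unfold GoodU; infer_instance
instance : Decidable D.GoodCl := by unfold GoodCl; infer_instance
instance : Decidable D.GoodJ := by unfold GoodJ; infer_instance
instance : Decidable D.GoodC := by unfold GoodC; infer_instance

/-- All conditions. -/
structure Good : Prop where
  goodU : D.GoodU
  goodCl : D.GoodCl
  goodJ : D.GoodJ
  goodC : D.GoodC

end CentData

end CfsgLib.J1
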