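import Cfsg.Agent.Lib.J1.Group

/-!
Soundness of the centralizer data.
-/

set_option autoImplicit false

namespace CfsgLib.J1

open CentData

variable {D : CentData}

theorem conj_eq (hD : D.Good) : ∀ h < 660,
    mat (hCode h) * mat (D.U (get 16 D.cl h)) = mat D.g * mat (hCode h) := by
  obtain ⟨h0, hpos, hU0, -, -, hcl⟩ := hD.goodCl
  refine h_induction ?_ ?_ ?_
  · rw [hTab_zero.1, mat_one, one_mul, mul_one, hU0]
  · intro i hi h
    obtain ⟨hlt, hA, -⟩ := hcl ⟨i, hi⟩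
    obtain ⟨-, -, h1, h2, -, -⟩ := hD.goodU ⟨_, hlt⟩
    rw [hA, ← mat_mul (hTab_ok ⟨i, hi⟩).2.2.1, mul_assoc, mat_mul h1, ← mat_mul h2, ← mul_assoc, h,
      mul_assoc]
  · intro i hi h
    obtain ⟨hlt, -, hB⟩ := hcl ⟨i, hi⟩
    obtain ⟨-, -, -, -, h1, h2⟩ := hD.goodU ⟨_, hlt⟩
    rw [hB, ← mat_mul (hTab_ok ⟨i, hi⟩).2.2.2, mul_assoc, mat_mul h1, ← mat_mul h2, ← mul_assoc, h,
      mul_assoc]

theorem U_strict (hD : D.Good) : ∀ {a b : ℕ}, a < b → b < D.nU → D.U a < D.U b := by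
  intro a b hab hb
  induction b, hab using Nat.le_induction with
  | base => exact (hD.goodCl.2.2.2.2.1 ⟨a, by omega⟩).2 hb
  | succ c hc ih => exact (ih (by omega)).trans ((hD.goodCl.2.2.2.2.1 ⟨c, by omega⟩).2 hb)

/-- A listed value determines its position. -/
theorem index_eq (hD : D.Good) {u m v : ℕ} (hu : u < D.nU)
    (hm : (m < D.nU ∧ D.U m = v) ∨ (D.nU < m ∧ m ≤ 2 * D.nU + 1 ∧
      (m = D.nU + 1 ∨ D.U (m - D.nU - 2) < v) ∧ (m = 2 * D.nU + 1 ∨ v < D.U (m - D.nU - 1))))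
    (h : D.U u = v) : u = m := by
  rcases hm with ⟨hm, he⟩ | ⟨h1, h2, h3, h4⟩
  · rcases lt_trichotomy u m with hlt | rfl | hlt
    · have := U_strict hD hlt hm; omega
    · rfl
    · have := U_strict hD hlt hu; omega
  · exfalso
    by_cases hp : u + D.nU + 1 < m
    · rcases h3 with h3 | h3
      · omega
      · rcases (show u ≤ m - D.nU - 2 by omega).eq_or_lt with e | e
        · rw [← e] at h3; omega
        · have := U_strict hD e (by omega); omega
    · rcases h4 with h4 | h4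
      · omega
      · rcases (show m - D.nU - 1 ≤ u by omega).eq_or_lt with e | e
        · rw [e] at h4; omega
        · have := U_strict hD e hu; omega

theorem inJ1_C (hD : D.Good) (k : Fin D.nC) : InJ1 (D.C k) := by
  obtain ⟨h1, h2, h3, -⟩ := hD.goodC.2.2.2.2 k
  exact inJ1_mul (inJ1_h _ h1) (inJ1_t _ h2) h3

/-- The certified element as a member of the group. -/
noncomputable def elem (hD : D.Good) : Cfsg.Spor.J1 :=
  ⟨(inJ1_C hD ⟨D.self, hD.goodC.2.1⟩).choose, (inJ1_C hD ⟨D.self, hD.goodC.2.1⟩).choose_spec.1⟩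

theorem elem_mat (hD : D.Good) : ((elem hD : GM) : Mat) = mat D.g := by
  rw [← hD.goodC.2.2.2.1]
  exact (inJ1_C hD ⟨D.self, hD.goodC.2.1⟩).choose_spec.2

/-- The list contains the whole centralizer. -/
theorem mem_list (hD : D.Good) {z : Cfsg.Spor.J1} (hz : z * elem hD = elem hD * z) :
    ∃ k : Fin D.nC, ((z : GM) : Mat) = mat (D.C k) := by
  obtain ⟨h, hh, j, hj, e⟩ := exists_ht z.2
  have hc : (mat (hCode h) * mat (tCode j)) * mat D.g = mat D.g * (mat (hCode h) * mat (tCode j)) := by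
    rw [← e, ← elem_mat hD, ← Units.val_mul, ← Units.val_mul, ← Subgroup.coe_mul, ← Subgroup.coe_mul, hz]
  obtain ⟨o1, o2, hmj, hpair⟩ := hD.goodJ ⟨j, hj⟩
  obtain ⟨-, -, -, -, hUc, hcl⟩ := hD.goodCl
  obtain ⟨hlt, -, -⟩ := hcl ⟨h, hh⟩
  set u := get 16 D.cl h with hu
  have hunit : IsUnit (mat (hCode h)) := by
    obtain ⟨w, -, ew⟩ := inJ1_h h hh
    exact ew ▸ w.isUnit
  have h1 : mat (tCode j) * mat D.g = mat (D.U u) * mat (tCode j) := by
    apply hunit.mul_left_cancel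
    rw [← mul_assoc, hc, ← mul_assoc, ← mul_assoc, conj_eq hD h hh]
  have htt : mat (tCode j) * mat (tTrCode j) = 1 := by
    apply mul_eq_one_comm.mp
    rw [mat_mul (tTr_ok ⟨j, hj⟩), mat_one]
  have h2 : mat (get 196 D.r2 j) = mat (D.U u) := by
    rw [← mat_mul o2, ← mat_mul o1, h1, mul_assoc, htt, mul_one]
  have h3 : D.U u = get 196 D.r2 j := (mat_inj (canon_of_ok o2) (hUc ⟨u, hlt⟩).1 h2).symm
  have h4 : u = get 16 D.m j := index_eq hD hlt hmj h3
  obtain ⟨k, hk⟩ := hpair (h4 ▸ hlt) ⟨h, hh⟩ h4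
  refine ⟨k, ?_⟩
  obtain ⟨-, -, h5, -⟩ := hD.goodC.2.2.2.2 k
  have e1 : D.prH k = h := by rw [CentData.prH, hk]; show (h + 2 ^ 16 * j) % 2 ^ 16 = h; omega
  have e2 : D.prT k = j := by rw [CentData.prT, hk]; show (h + 2 ^ 16 * j) / 2 ^ 16 = j; omega
  rw [e, ← mat_mul h5, e1, e2]

theorem mat_pow_C (hD : D.Good) (k : Fin D.nC) : ∀ e ≤ D.ord k, mat (D.C k) ^ e = mat (D.C (D.power k e)) := by
  obtain ⟨-, -, -, h0, -, hlt, -, hstep⟩ := hD.goodC.2.2.2.2 k
  intro e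
  induction e with
  | zero => intro _; rw [pow_zero, h0, hD.goodC.2.2.1, mat_one]
  | succ e ih =>
    intro he
    rw [pow_succ, ih (by omega)]
    exact mat_mul (hstep ⟨e, by omega⟩ (show e < D.ord k by omega)).2

/-- Element orders in a certified centralizer. -/
theorem orderOf_dvd (hD : D.Good) {z : Cfsg.Spor.J1} (hz : z * elem hD = elem hD * z) :
    ∃ k : Fin D.nC, orderOf z ∣ D.ord k := by
  obtain ⟨k, hk⟩ := mem_list hD hz
  refine ⟨k, ?_⟩
  obtain ⟨-, -, -, -, -, -, hend, -⟩ := hD.goodC.2.2.2.2 k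
  rw [← Subgroup.orderOf_coe, ← orderOf_units, hk]
  refine orderOf_dvd_of_pow_eq_one ?_
  rw [mat_pow_C hD k _ le_rfl, hend, hD.goodC.2.2.1, mat_one]

end CfsgLib.J1
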