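import Cfsg.Agent.Lib.J1.CentDef

/-!
Verification of the coset decomposition tables.
-/

set_option autoImplicit false

namespace CfsgLib.J1

theorem hTab_zero : hCode 0 = oneCode ∧ tCode 0 = oneCode := by decide +kernel

theorem hTab_ok : ∀ i : Fin 660, hMulA i < 660 ∧ hMulB i < 660 ∧
    ok (hCode i) codeA (hCode (hMulA i)) ∧ ok (hCode i) codeB (hCode (hMulB i)) := by
  decide +kernel

theorem hPar_ok : ∀ i : Fin 660, i.val ≠ 0 → hParent i < i.val ∧
    ((hBit i = 0 ∧ hMulA (hParent i) = i.val) ∨ (hBit i = 1 ∧ hMulB (hParent i) = i.val)) := by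
  decide +kernel

theorem tX_ok : ∀ j : Fin 266, tH j < 660 ∧ tNext j < 266 ∧
    ok (tCode j) codeX (tProd j) ∧ ok (hCode (tH j)) (tCode (tNext j)) (tProd j) := by
  decide +kernel

theorem tY_ok : ∀ j : Fin 266, tH (266 + j) < 660 ∧ tNext (266 + j) < 266 ∧
    ok (tCode j) codeY (tProd (266 + j)) ∧
      ok (hCode (tH (266 + j))) (tCode (tNext (266 + j))) (tProd (266 + j)) := by
  decide +kernel

theorem tPar_ok : ∀ j : Fin 266, j.val ≠ 0 → tParent j < j.val ∧
    ((tBit j = 0 ∧ ok (tCode (tParent j)) codeX (tCode j)) ∨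
      (tBit j = 1 ∧ ok (tCode (tParent j)) codeY (tCode j))) := by
  decide +kernel

theorem tTr_ok : ∀ j : Fin 266, ok (tTrCode j) (tCode j) oneCode := by
  decide +kernel

theorem chainA_ok : get 196 chainA 0 = oneCode ∧ get 196 chainA lenA = codeA ∧ ∀ i : Fin lenA,
    (wordA.testBit i = false ∧ ok (get 196 chainA i) codeX (get 196 chainA (i + 1))) ∨
      (wordA.testBit i = true ∧ ok (get 196 chainA i) codeY (get 196 chainA (i + 1))) := by
  decide +kernel

theorem chainB_ok : get 196 chainB 0 = oneCode ∧ get 196 chainB lenB = codeB ∧ ∀ i : Fin lenB,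
    (wordB.testBit i = false ∧ ok (get 196 chainB i) codeX (get 196 chainB (i + 1))) ∨
      (wordB.testBit i = true ∧ ok (get 196 chainB i) codeY (get 196 chainB (i + 1))) := by
  decide +kernel

end CfsgLib.J1
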