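import Mathlib

/-!
Packed seven-by-seven matrices over the field with eleven elements, with checkable products.
-/

set_option autoImplicit false

namespace CfsgLib.J1

abbrev Mat := Matrix (Fin 7) (Fin 7) (ZMod 11)

/-- The `i`th word of width `w` of a packed table. -/
def get (w D i : ℕ) : ℕ := (D >>> (w * i)) % 2 ^ w

/-- An entry of a packed matrix. -/
def dg (X : ℕ) (i j : Fin 7) : ℕ := (X >>> (4 * (7 * i.val + j.val))) % 2 ^ 4

/-- The matrix with the given packed code. -/
def mat (X : ℕ) : Mat := Matrix.of fun i j => (dg X i j : ZMod 11)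

/-- `Z` is the packed product of `X` and `Y`. -/
def ok (X Y Z : ℕ) : Prop := Z < 2 ^ 196 ∧ ∀ i j : Fin 7,
  (dg X i 0 * dg Y 0 j + dg X i 1 * dg Y 1 j + dg X i 2 * dg Y 2 j + dg X i 3 * dg Y 3 j +
    dg X i 4 * dg Y 4 j + dg X i 5 * dg Y 5 j + dg X i 6 * dg Y 6 j) % 11 = dg Z i j

instance (X Y Z : ℕ) : Decidable (ok X Y Z) := by unfold ok; infer_instance

theorem mat_mul {X Y Z : ℕ} (h : ok X Y Z) : mat X * mat Y = mat Z := by
  ext i j
  have := congrArg (fun n : ℕ => (n : ZMod 11)) (h.2 i j)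
  simp only [ZMod.natCast_mod, Nat.cast_add, Nat.cast_mul] at this
  simpa [mat, Matrix.mul_apply, Fin.sum_univ_seven] using this

theorem ok_lt {X Y Z : ℕ} (h : ok X Y Z) (i j : Fin 7) : dg Z i j < 11 := by
  rw [← h.2 i j]; exact Nat.mod_lt _ (by omega)

/-- A packed code with all entries reduced. -/
def Canon (X : ℕ) : Prop := X < 2 ^ 196 ∧ ∀ i j : Fin 7, dg X i j < 11

instance (X : ℕ) : Decidable (Canon X) := by unfold Canon; infer_instance

theorem canon_of_ok {X Y Z : ℕ} (h : ok X Y Z) : Canon Z := ⟨h.1, ok_lt h⟩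

theorem mat_inj {X Y : ℕ} (hX : Canon X) (hY : Canon Y) (h : mat X = mat Y) : X = Y := by
  have hd : ∀ i j : Fin 7, dg X i j = dg Y i j := fun i j => by
    have := congrFun (congrFun h i) j
    simp only [mat, Matrix.of_apply] at this
    rw [ZMod.natCast_eq_natCast_iff', Nat.mod_eq_of_lt (hX.2 i j), Nat.mod_eq_of_lt (hY.2 i j)] at this
    exact this
  apply Nat.eq_of_testBit_eq
  intro b
  by_cases hb : b < 196
  · have h2 := hd ⟨b / 28, by omega⟩ ⟨b % 28 / 4, by omega⟩
    have h3 := congrArg (fun n => Nat.testBit n (b % 4)) h2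
    simp only [dg, Nat.testBit_mod_two_pow, Nat.testBit_shiftRight] at h3
    have h4 : 4 * (7 * (b / 28) + b % 28 / 4) + b % 4 = b := by omega
    rw [h4] at h3
    simpa [show b % 4 < 4 by omega] using h3
  · rw [Nat.testBit_lt_two_pow (lt_of_lt_of_le hX.1 (Nat.pow_le_pow_right (by omega) (by omega))),
      Nat.testBit_lt_two_pow (lt_of_lt_of_le hY.1 (Nat.pow_le_pow_right (by omega) (by omega)))]

/-- The packed identity. -/
def oneCode : ℕ := 0x1000000010000000100000001000000010000000100000001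

theorem mat_one : mat oneCode = 1 := by decide +kernel

end CfsgLib.J1
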