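import Cfsg.Agent.Lib.J1.Code

/-!
Named elements of the first Janko group.
-/

set_option autoImplicit false

namespace CfsgLib.J1

def invIdx : ℕ := 0x3700320033000b0035000a0001
def invProd : ℕ := 0x953223a56976919796a66988961298aa59a5a25992195543861252576427534083747160786600064a78464299387965748296a8922947a0586a394a0367a944a308700937a9aa32381102a239257a3582537754253973001535261813479896761326324300163595131877939576a8a09a28226718582634454a4138304773712a45286888292a6348279831512a90986827
def invComm : ℕ := 0xa000b0033000100320035000a000000010035000b00370033000b000100000037000a00350032003300350037000000320001000a0001000b000a0032000000330037003200370035000100330000000b003500330032000a0037000b0000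
def sevenCode : ℕ := 0x44848855101324a68a9070879333aa9608732804889038373
def sevenH : ℕ := 657
def sevenT : ℕ := 35
def genW : ℕ := 0x9552a466851798892263131922631aa9682217556292552a2100000001000000010000000100000001000000010000000188795a69589a32787923329aa1363496208304331149731771000000010000000100000001000000010000000100000001
def genC : ℕ := 0x9859974971566971874081804405574573964478696003657738323084390888867787894510190415813380372037aa2688893074890333364487897510a307153a288087238711260738323084390888867787894510190415813380372037aa26
def genK : ℕ := 0x11000400020004
def genP : ℕ := 0x245351331a1893a21036482329618474a301029277a200934738323084390888867787894510190415813380372037aa265514466a7654554678036575756a687058740668846368335738323084390888867787894510190415813380372037aa26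
def genWH : ℕ := 0x2300000008e0000
def genWT : ℕ := 0x5a000000290000

end CfsgLib.J1
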