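import Cfsg.Agent.Lib.J1.Centralizer
import Cfsg.Agent.Lib.J1.Elements
import Cfsg.Agent.Lib.J1.Cent2
import Cfsg.Agent.Lib.J1.Cent3
import Cfsg.Agent.Lib.J1.Cent5
import Cfsg.Agent.Lib.J1.Cent7
import Cfsg.Agent.Lib.J1.Cent11
import Cfsg.Agent.Lib.J1.Cent19

/-!
Order, Sylow subgroups and element orders of the first Janko group.
-/

set_option autoImplicit false
set_option linter.style.haveILetI false

namespace CfsgLib.J1

open CentData

abbrev J := ↥Cfsg.Spor.J1

/-- The matrix underlying an element. -/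
abbrev matJ (z : J) : Mat := ((z : GM) : Mat)

theorem matJ_inj {a b : J} (h : matJ a = matJ b) : a = b := Subtype.ext (Units.ext h)

theorem matJ_mul (a b : J) : matJ (a * b) = matJ a * matJ b := by
  simp [matJ, Units.val_mul]

theorem orderOf_matJ (z : J) : orderOf z = orderOf (matJ z) := by
  rw [← Subgroup.orderOf_coe, ← orderOf_units]

theorem orderOf_elem_eq {D : CentData} (hD : D.Good) {q : ℕ} (hq : q.Prime) (ho : D.ord D.self = q)
    (h1 : D.g ≠ oneCode) : orderOf (elem hD) = q := by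
  haveI := Fact.mk hq
  obtain ⟨h1', h2', h3', h4', hk⟩ := hD.goodC
  refine orderOf_eq_prime (matJ_inj ?_) fun e => h1 ?_
  · have hp := mat_pow_C hD ⟨D.self, h2'⟩ q (le_of_eq ho.symm)
    obtain ⟨-, -, -, -, -, -, hend, -⟩ := hk ⟨D.self, h2'⟩
    show ((((elem hD) ^ q : J) : GM) : Mat) = ((1 : GM) : Mat)
    rw [Subgroup.coe_pow, Units.val_pow_eq_pow_val, elem_mat, ← h4', hp]
    simp only at hend
    rw [ho] at hend
    show mat (D.C (D.power D.self q)) = _
    rw [hend, h3', mat_one]; rfl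
  · refine mat_inj hD.goodCl.2.2.2.1 (by decide +kernel) ?_
    rw [mat_one, ← elem_mat hD, e]; rfl

theorem elem2 : orderOf (elem cent2_good) = 2 :=
  orderOf_elem_eq cent2_good Nat.prime_two (by decide +kernel) (by decide +kernel)
theorem elem3 : orderOf (elem cent3_good) = 3 :=
  orderOf_elem_eq cent3_good Nat.prime_three (by decide +kernel) (by decide +kernel)
theorem elem5 : orderOf (elem cent5_good) = 5 :=
  orderOf_elem_eq cent5_good Nat.prime_five (by decide +kernel) (by decide +kernel)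
theorem elem7 : orderOf (elem cent7_good) = 7 :=
  orderOf_elem_eq cent7_good (by norm_num) (by decide +kernel) (by decide +kernel)
theorem elem11 : orderOf (elem cent11_good) = 11 :=
  orderOf_elem_eq cent11_good (by norm_num) (by decide +kernel) (by decide +kernel)
theorem elem19 : orderOf (elem cent19_good) = 19 :=
  orderOf_elem_eq cent19_good (by norm_num) (by decide +kernel) (by decide +kernel)

/-! ### The elementary subgroup of order eight -/

def eIdx (i : ℕ) : ℕ := get 16 invIdx i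
def eCode (i : ℕ) : ℕ := cent2.C (eIdx i)

theorem e_ok : eIdx 0 = cent2.self ∧ ∀ i : Fin 7, eIdx i < cent2.nC ∧ Canon (eCode i) ∧
    eCode i ≠ oneCode ∧ (∀ j : Fin 7, eCode i = eCode j → i = j) ∧
    ∀ j : Fin 7, ok (eCode i) (eCode j) (cent2.C (get 16 invComm (7 * i.val + j.val))) ∧
      (get 16 invComm (7 * i.val + j.val) = cent2.one ∨
        ∃ k : Fin 7, get 16 invComm (7 * i.val + j.val) = eIdx k) := by
  decide +kernel

theorem seven_ok : sevenH < 660 ∧ sevenT < 266 ∧ ok (hCode sevenH) (tCode sevenT) sevenCode ∧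
    ∀ i : Fin 6, ok sevenCode (eCode i) (get 196 invProd i) ∧
      ok (eCode (i.val + 1)) sevenCode (get 196 invProd i) := by
  decide +kernel

/-- The seven involutions. -/
noncomputable def eElem (i : Fin 7) : J :=
  ⟨(inJ1_C cent2_good ⟨eIdx i, (e_ok.2 i).1⟩).choose, (inJ1_C cent2_good ⟨eIdx i, (e_ok.2 i).1⟩).choose_spec.1⟩

theorem eElem_mat (i : Fin 7) : matJ (eElem i) = mat (eCode i) :=
  (inJ1_C cent2_good ⟨eIdx i, (e_ok.2 i).1⟩).choose_spec.2

theorem eElem_zero : eElem 0 = elem cent2_good := by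
  apply matJ_inj
  rw [eElem_mat, show eCode (0 : Fin 7).val = cent2.g from ?_]
  · exact (elem_mat cent2_good).symm
  · show cent2.C (eIdx 0) = _
    rw [e_ok.1]; exact cent2_goodC.2.2.2.1

theorem eElem_mul (i j : Fin 7) : eElem i * eElem j = 1 ∨ ∃ k, eElem i * eElem j = eElem k := by
  obtain ⟨h, h'⟩ := (e_ok.2 i).2.2.2.2 j
  rcases h' with h' | ⟨k, hk⟩
  · left; apply matJ_inj
    rw [matJ_mul, eElem_mat, eElem_mat, mat_mul h, h', cent2_goodC.2.2.1, mat_one]; rfl
  · right; refine ⟨k, matJ_inj ?_⟩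
    rw [matJ_mul, eElem_mat, eElem_mat, eElem_mat, mat_mul h, hk]; rfl

theorem eMul {a b : J} (ha : a = 1 ∨ ∃ i, a = eElem i) (hb : b = 1 ∨ ∃ i, b = eElem i) :
    a * b = 1 ∨ ∃ i, a * b = eElem i := by
  rcases ha with rfl | ⟨i, rfl⟩
  · rwa [one_mul]
  · rcases hb with rfl | ⟨j, rfl⟩
    · exact Or.inr ⟨i, mul_one _⟩
    · exact eElem_mul i j

/-- The elementary subgroup of order eight. -/
noncomputable def eSub : Subgroup J where
  carrier := {z | z = 1 ∨ ∃ i, z = eElem i}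
  one_mem' := Or.inl rfl
  mul_mem' := fun {a b} ha hb => eMul ha hb
  inv_mem' := fun {a} ha => by
    have h : ∀ n : ℕ, a ^ n = 1 ∨ ∃ i, a ^ n = eElem i := by
      intro n
      induction n with
      | zero => exact Or.inl (pow_zero a)
      | succ n ih =>
        rw [pow_succ]
        exact eMul ih ha
    rw [inv_eq_of_mul_eq_one_right (show a * a ^ (orderOf a - 1) = 1 by
      rw [← pow_succ', Nat.sub_add_cancel (orderOf_pos a), pow_orderOf_eq_one])]
    exact h (orderOf a - 1)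

theorem eElem_ne_one (i : Fin 7) : eElem i ≠ 1 := fun e => by
  apply (e_ok.2 i).2.2.1
  refine mat_inj (e_ok.2 i).2.1 (by decide +kernel) ?_
  rw [← eElem_mat, e, mat_one]; rfl

theorem eElem_inj : Function.Injective eElem := fun i j e => by
  refine (e_ok.2 i).2.2.2.1 j (mat_inj (e_ok.2 i).2.1 (e_ok.2 j).2.1 ?_)
  rw [← eElem_mat, ← eElem_mat, e]

theorem mem_eSub {z : J} : z ∈ eSub ↔ z = 1 ∨ ∃ i, z = eElem i := Iff.rfl

theorem eSub_card : Nat.card eSub = 8 := by
  let f : Option (Fin 7) → eSub := fun o => match o with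
    | none => ⟨1, Or.inl rfl⟩
    | some i => ⟨eElem i, Or.inr ⟨i, rfl⟩⟩
  have hf : Function.Bijective f := by
    refine ⟨?_, ?_⟩
    · rintro (_ | i) (_ | j) h
      · rfl
      · exact absurd (congrArg Subtype.val h).symm (eElem_ne_one j)
      · exact absurd (congrArg Subtype.val h) (eElem_ne_one i)
      · rw [eElem_inj (congrArg Subtype.val h)]
    · rintro ⟨z, hz⟩
      rcases mem_eSub.mp hz with rfl | ⟨i, rfl⟩
      · exact ⟨none, rfl⟩
      · exact ⟨some i, rfl⟩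
  rw [← Nat.card_eq_of_bijective f hf]
  simp

theorem card_eq : Nat.card J = 175560 := by
  refine le_antisymm card_le (Nat.le_of_dvd Nat.card_pos ?_)
  have h8 : 8 ∣ Nat.card J := eSub_card ▸ Subgroup.card_subgroup_dvd_card _
  have h3 : 3 ∣ Nat.card J := elem3 ▸ orderOf_dvd_natCard _
  have h5 : 5 ∣ Nat.card J := elem5 ▸ orderOf_dvd_natCard _
  have h7 : 7 ∣ Nat.card J := elem7 ▸ orderOf_dvd_natCard _
  have h11 : 11 ∣ Nat.card J := elem11 ▸ orderOf_dvd_natCard _
  have h19 : 19 ∣ Nat.card J := elem19 ▸ orderOf_dvd_natCard _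
  have := Nat.Coprime.mul_dvd_of_dvd_of_dvd (by norm_num : Nat.Coprime (8 * 3 * 5 * 7 * 11) 19)
    (Nat.Coprime.mul_dvd_of_dvd_of_dvd (by norm_num : Nat.Coprime (8 * 3 * 5 * 7) 11)
      (Nat.Coprime.mul_dvd_of_dvd_of_dvd (by norm_num : Nat.Coprime (8 * 3 * 5) 7)
        (Nat.Coprime.mul_dvd_of_dvd_of_dvd (by norm_num : Nat.Coprime (8 * 3) 5)
          (Nat.Coprime.mul_dvd_of_dvd_of_dvd (by norm_num : Nat.Coprime 8 3) h8 h3) h5) h7) h11) h19
  norm_num at this ⊢
  exact this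

theorem factorization_card {q : ℕ} (hq : q = 3 ∨ q = 5 ∨ q = 7 ∨ q = 11 ∨ q = 19) :
    (Nat.card J).factorization q = 1 := by
  have hp : q.Prime := by rcases hq with rfl | rfl | rfl | rfl | rfl <;> norm_num
  rw [card_eq, Nat.factorization_def _ hp]
  obtain ⟨m, hm, hnd⟩ : ∃ m, 175560 = q * m ∧ ¬ q ∣ m := by
    rcases hq with rfl | rfl | rfl | rfl | rfl
    · exact ⟨58520, by norm_num, by norm_num⟩
    · exact ⟨35112, by norm_num, by norm_num⟩
    · exact ⟨25080, by norm_num, by norm_num⟩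
    · exact ⟨15960, by norm_num, by norm_num⟩
    · exact ⟨9240, by norm_num, by norm_num⟩
  haveI := Fact.mk hp
  rw [hm, padicValNat.mul hp.ne_zero (fun e => by rw [e] at hnd; exact hnd (dvd_zero q)),
    padicValNat.self hp.one_lt, padicValNat.eq_zero_of_not_dvd hnd]

/-- Elements of the same odd prime order generate conjugate subgroups. -/
theorem conj_zpowers {q : ℕ} (hq : q = 3 ∨ q = 5 ∨ q = 7 ∨ q = 11 ∨ q = 19) {g x : J}
    (hg : orderOf g = q) (hx : orderOf x = q) : ∃ w : J, w * x * w⁻¹ ∈ Subgroup.zpowers g := by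
  have hp : q.Prime := by rcases hq with rfl | rfl | rfl | rfl | rfl <;> norm_num
  haveI := Fact.mk hp
  have hc : ∀ y : J, orderOf y = q → Nat.card (Subgroup.zpowers y) = q ^ (Nat.card J).factorization q :=
    fun y hy => by rw [Nat.card_zpowers, hy, factorization_card hq, pow_one]
  obtain ⟨w, hw⟩ := MulAction.exists_smul_eq J (Sylow.ofCard _ (hc x hx)) (Sylow.ofCard _ (hc g hg))
  refine ⟨w, ?_⟩
  have hw' : ((w • Sylow.ofCard _ (hc x hx) : Sylow q J) : Subgroup J) = Subgroup.zpowers g := by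
    rw [hw]; rfl
  rw [← hw']
  exact ⟨x, Subgroup.mem_zpowers x, rfl⟩

/-- The cycling element. -/
theorem exists_seven : ∃ s : J, ∀ i : Fin 6, s * eElem i.castSucc * s⁻¹ = eElem i.succ := by
  obtain ⟨h1, h2, h3, h⟩ := seven_ok
  obtain ⟨s, hs, es⟩ := inJ1_mul (inJ1_h _ h1) (inJ1_t _ h2) h3
  refine ⟨⟨s, hs⟩, fun i => ?_⟩
  rw [mul_inv_eq_iff_eq_mul]
  apply matJ_inj
  rw [matJ_mul, matJ_mul, eElem_mat, eElem_mat]
  show (s : Mat) * _ = _ * (s : Mat)
  rw [es]
  exact (mat_mul (h i).1).trans (mat_mul (h i).2).symm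

theorem conj_invol {x : J} (hx : orderOf x = 2) : ∃ w : J, w * x * w⁻¹ = elem cent2_good := by
  haveI := Fact.mk Nat.prime_two
  obtain ⟨s, hs⟩ := exists_seven
  have hall : ∀ i : Fin 7, ∃ w : J, w * eElem i * w⁻¹ = eElem 0 := by
    intro i
    induction i using Fin.induction with
    | zero => exact ⟨1, by group⟩
    | succ i ih =>
      obtain ⟨w, hw⟩ := ih
      exact ⟨w * s⁻¹, by rw [← hs i, ← hw]; group⟩
  have hc : Nat.card eSub = 2 ^ (Nat.card J).factorization 2 := by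
    rw [eSub_card, card_eq, Nat.factorization_def _ Nat.prime_two]
    rw [show (175560 : ℕ) = 2 ^ 3 * 21945 by norm_num, padicValNat.mul (by norm_num) (by norm_num),
      padicValNat.prime_pow, padicValNat.eq_zero_of_not_dvd (by norm_num : ¬ 2 ∣ 21945)]
    norm_num
  obtain ⟨P, hP⟩ := (IsPGroup.of_card (n := 1) (by rw [Nat.card_zpowers, hx, pow_one]) :
    IsPGroup 2 (Subgroup.zpowers x)).exists_le_sylow
  obtain ⟨w, hw⟩ := MulAction.exists_smul_eq J P (Sylow.ofCard _ hc)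
  have hmem : w * x * w⁻¹ ∈ eSub := by
    have hw' : ((w • P : Sylow 2 J) : Subgroup J) = eSub := by rw [hw]; rfl
    rw [← hw']
    exact ⟨x, hP (Subgroup.mem_zpowers x), rfl⟩
  rcases mem_eSub.mp hmem with h | ⟨i, h⟩
  · rw [conj_eq_one_iff.mp h, orderOf_one] at hx; omega
  · obtain ⟨v, hv⟩ := hall i
    exact ⟨v * w, by rw [← eElem_zero, ← hv, ← h]; group⟩

theorem allowed_ords : (∀ k : Fin cent2.nC, cent2.ord k ∈ ({1, 2, 3, 5, 6, 10} : Finset ℕ)) ∧
    (∀ k : Fin cent3.nC, cent3.ord k ∈ ({1, 2, 3, 5, 6, 15} : Finset ℕ)) ∧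
    (∀ k : Fin cent5.nC, cent5.ord k ∈ ({1, 2, 3, 5, 10, 15} : Finset ℕ)) ∧
    (∀ k : Fin cent7.nC, cent7.ord k ∈ ({1, 7} : Finset ℕ)) ∧
    (∀ k : Fin cent11.nC, cent11.ord k ∈ ({1, 11} : Finset ℕ)) ∧
    (∀ k : Fin cent19.nC, cent19.ord k ∈ ({1, 19} : Finset ℕ)) := by
  decide +kernel

theorem orderOf_mem (z : J) : orderOf z ∈ ({1, 2, 3, 5, 6, 7, 10, 11, 15, 19} : Finset ℕ) := by
  by_cases h1 : orderOf z = 1
  · rw [h1]; simp
  set q := (orderOf z).minFac
  have hq : q.Prime := Nat.minFac_prime h1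
  set x := z ^ (orderOf z / q)
  have hx : orderOf x = q := orderOf_pow_orderOf_div (orderOf_pos z).ne' (Nat.minFac_dvd _)
  have hdvd : q ∣ 175560 := card_eq ▸ hx ▸ orderOf_dvd_natCard x
  have step : ∀ {D : CentData} (hD : D.Good) (S : Finset ℕ), (∀ k : Fin D.nC, D.ord k ∈ S) →
      (∀ n ∈ S, ∀ d ∈ Finset.range 20, d ∣ n → d ∈ ({1, 2, 3, 5, 6, 7, 10, 11, 15, 19} : Finset ℕ)) →
      (∀ n ∈ S, 0 < n ∧ n < 20) →
      (∃ w : J, Commute (w * x * w⁻¹) (elem hD) ∧ ∀ y : J, Commute y (w * x * w⁻¹) → Commute y (elem hD)) →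
      orderOf z ∈ ({1, 2, 3, 5, 6, 7, 10, 11, 15, 19} : Finset ℕ) := by
    rintro D hD S hS hdiv hpos ⟨w, -, hw⟩
    have hc : Commute (w * z * w⁻¹) (w * x * w⁻¹) := by
      have e : w * x * w⁻¹ = (w * z * w⁻¹) ^ (orderOf z / q) := conj_pow.symm
      rw [e]; exact (Commute.refl _).pow_right _
    obtain ⟨k, hk⟩ := orderOf_dvd hD (hw _ hc).eq
    have ho : orderOf (w * z * w⁻¹) = orderOf z := by
      exact (MulAut.conj w).orderOf_eq z
    rw [ho] at hk
    refine hdiv _ (hS k) _ (Finset.mem_range.mpr ?_) hk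
    have := Nat.le_of_dvd (hpos _ (hS k)).1 hk
    have := (hpos _ (hS k)).2
    omega
  have mk : ∀ {g : J}, orderOf g = q → (q = 3 ∨ q = 5 ∨ q = 7 ∨ q = 11 ∨ q = 19) →
      ∃ w : J, Commute (w * x * w⁻¹) g ∧ ∀ y : J, Commute y (w * x * w⁻¹) → Commute y g := by
    intro g hg hq'
    obtain ⟨w, hw⟩ := conj_zpowers hq' hg hx
    refine ⟨w, ?_, fun y hy => ?_⟩
    · obtain ⟨n, hn⟩ := Subgroup.mem_zpowers_iff.mp hw
      rw [← hn]; exact (Commute.refl g).zpow_left n
    · have hgen : Subgroup.zpowers (w * x * w⁻¹) = Subgroup.zpowers g := by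
        refine Subgroup.eq_of_le_of_card_ge (Subgroup.zpowers_le.mpr hw) (le_of_eq ?_)
        rw [Nat.card_zpowers, Nat.card_zpowers, hg, show orderOf (w * x * w⁻¹) = orderOf x from
          (MulAut.conj w).orderOf_eq x, hx]
      obtain ⟨n, hn⟩ := Subgroup.mem_zpowers_iff.mp (hgen ▸ Subgroup.mem_zpowers g)
      rw [← hn]; exact hy.zpow_right n
  obtain ⟨a2, a3, a5, a7, a11, a19⟩ := allowed_ords
  have hq' : q = 2 ∨ q = 3 ∨ q = 5 ∨ q = 7 ∨ q = 11 ∨ q = 19 := by
    have hle : ∀ r : ℕ, r.Prime → r ∣ 175560 → r = 2 ∨ r = 3 ∨ r = 5 ∨ r = 7 ∨ r = 11 ∨ r = 19 := by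
      intro r hr h
      have h' : r ∣ 2 ^ 3 * (3 * (5 * (7 * (11 * 19)))) := by norm_num; exact h
      have cases' : ∀ {a b : ℕ}, r ∣ a * b → r ∣ a ∨ r ∣ b := fun h => (Nat.Prime.dvd_mul hr).mp h
      rcases cases' h' with h2 | h2
      · exact Or.inl ((Nat.prime_dvd_prime_iff_eq hr Nat.prime_two).mp (hr.dvd_of_dvd_pow h2))
      rcases cases' h2 with h3 | h3
      · exact Or.inr (Or.inl ((Nat.prime_dvd_prime_iff_eq hr Nat.prime_three).mp h3))
      rcases cases' h3 with h4 | h4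
      · exact Or.inr (Or.inr (Or.inl ((Nat.prime_dvd_prime_iff_eq hr Nat.prime_five).mp h4)))
      have p7 : Nat.Prime 7 := by norm_num
      have p11 : Nat.Prime 11 := by norm_num
      have p19 : Nat.Prime 19 := by norm_num
      rcases cases' h4 with h5 | h5
      · exact Or.inr (Or.inr (Or.inr (Or.inl ((Nat.prime_dvd_prime_iff_eq hr p7).mp h5))))
      rcases cases' h5 with h6 | h6
      · exact Or.inr (Or.inr (Or.inr (Or.inr (Or.inl ((Nat.prime_dvd_prime_iff_eq hr p11).mp h6)))))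
      · exact Or.inr (Or.inr (Or.inr (Or.inr (Or.inr ((Nat.prime_dvd_prime_iff_eq hr p19).mp h6)))))
    exact hle q hq hdvd
  rcases hq' with e | e | e | e | e | e
  · obtain ⟨w, hw⟩ := conj_invol (hx.trans e)
    exact step cent2_good _ a2 (by decide) (by decide) ⟨w, hw ▸ Commute.refl _, fun y hy => hw ▸ hy⟩
  · exact step cent3_good _ a3 (by decide) (by decide) (mk (elem3.trans e.symm) (Or.inl e))
  · exact step cent5_good _ a5 (by decide) (by decide) (mk (elem5.trans e.symm) (Or.inr (Or.inl e)))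
  · exact step cent7_good _ a7 (by decide) (by decide) (mk (elem7.trans e.symm) (Or.inr (Or.inr (Or.inl e))))
  · exact step cent11_good _ a11 (by decide) (by decide)
      (mk (elem11.trans e.symm) (Or.inr (Or.inr (Or.inr (Or.inl e)))))
  · exact step cent19_good _ a19 (by decide) (by decide)
      (mk (elem19.trans e.symm) (Or.inr (Or.inr (Or.inr (Or.inr e)))))

theorem composite_witness :
    (∃ k : Fin cent2.nC, cent2.ord k = 6 ∧ ∀ e : Fin 20, 0 < e.val → e.val < 6 →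
      cent2.C (cent2.power k e) ≠ oneCode ∧ Canon (cent2.C (cent2.power k e))) ∧
    (∃ k : Fin cent2.nC, cent2.ord k = 10 ∧ ∀ e : Fin 20, 0 < e.val → e.val < 10 →
      cent2.C (cent2.power k e) ≠ oneCode ∧ Canon (cent2.C (cent2.power k e))) ∧
    (∃ k : Fin cent3.nC, cent3.ord k = 15 ∧ ∀ e : Fin 20, 0 < e.val → e.val < 15 →
      cent3.C (cent3.power k e) ≠ oneCode ∧ Canon (cent3.C (cent3.power k e))) := by
  decide +kernel

theorem exists_of_witness {D : CentData} (hD : D.Good) {n : ℕ} (hn : n < 20)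
    (h : ∃ k : Fin D.nC, D.ord k = n ∧ ∀ e : Fin 20, 0 < e.val → e.val < n →
      D.C (D.power k e) ≠ oneCode ∧ Canon (D.C (D.power k e))) : ∃ z : J, orderOf z = n := by
  obtain ⟨k, hk, hne⟩ := h
  obtain ⟨z, hz, ez⟩ := inJ1_C hD k
  obtain ⟨-, -, -, -, hpos, -, hend, -⟩ := hD.goodC.2.2.2.2 k
  refine ⟨⟨z, hz⟩, ?_⟩
  rw [orderOf_matJ, show matJ ⟨z, hz⟩ = mat (D.C k) from ez, orderOf_eq_iff (hk ▸ hpos)]
  refine ⟨?_, fun m hm hm0 e => ?_⟩
  · rw [mat_pow_C hD k n (le_of_eq hk.symm)]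
    rw [hk] at hend
    rw [hend, hD.goodC.2.2.1, mat_one]
  · rw [mat_pow_C hD k m (by omega)] at e
    obtain ⟨h1, h2⟩ := hne ⟨m, by omega⟩ hm0 hm
    exact h1 (mat_inj h2 (by decide +kernel) (e.trans mat_one.symm))

theorem spectrum : Set.range (orderOf : J → ℕ) = {1, 2, 3, 5, 6, 7, 10, 11, 15, 19} := by
  refine Set.Subset.antisymm ?_ ?_
  · rintro _ ⟨z, rfl⟩
    simpa using orderOf_mem z
  · intro n hn
    simp only [Set.mem_insert_iff, Set.mem_singleton_iff] at hn
    obtain ⟨w6, w10, w15⟩ := composite_witness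
    rcases hn with rfl | rfl | rfl | rfl | rfl | rfl | rfl | rfl | rfl | rfl
    · exact ⟨1, orderOf_one⟩
    · exact ⟨_, elem2⟩
    · exact ⟨_, elem3⟩
    · exact ⟨_, elem5⟩
    · exact exists_of_witness cent2_good (by omega) w6
    · exact ⟨_, elem7⟩
    · exact exists_of_witness cent2_good (by omega) w10
    · exact ⟨_, elem11⟩
    · exact exists_of_witness cent3_good (by omega) w15
    · exact ⟨_, elem19⟩

end CfsgLib.J1
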