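import Cfsg.Prelude.Def_Spor_J1
import Cfsg.Agent.Lib.J1.Check

/-!
The first Janko group as a union of 266 cosets of a subgroup of order 660.
-/

set_option autoImplicit false

namespace CfsgLib.J1

open Cfsg.Spor

abbrev GM := GL (Fin 7) (ZMod 11)

theorem jankoX_mat : (jankoX : Mat) = mat codeX := by
  show Cfsg.jankoMatrixX = _
  decide +kernel

theorem jankoY_mat : (jankoY : Mat) = mat codeY := by
  show Cfsg.jankoMatrixY = _
  decide +kernel

theorem jankoX_mem : jankoX ∈ Cfsg.Spor.J1 := Subgroup.subset_closure (by simp)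
theorem jankoY_mem : jankoY ∈ Cfsg.Spor.J1 := Subgroup.subset_closure (by simp)

/-- A code is realized inside the group. -/
def InJ1 (X : ℕ) : Prop := ∃ z ∈ Cfsg.Spor.J1, (z : Mat) = mat X

theorem inJ1_one : InJ1 oneCode := ⟨1, one_mem _, mat_one.symm⟩

theorem inJ1_mul {X Y Z : ℕ} (hX : InJ1 X) (hY : InJ1 Y) (h : ok X Y Z) : InJ1 Z := by
  obtain ⟨x, hx, ex⟩ := hX
  obtain ⟨y, hy, ey⟩ := hY
  exact ⟨x * y, mul_mem hx hy, by rw [Units.val_mul, ex, ey, mat_mul h]⟩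

theorem inJ1_X : InJ1 codeX := ⟨jankoX, jankoX_mem, jankoX_mat⟩
theorem inJ1_Y : InJ1 codeY := ⟨jankoY, jankoY_mem, jankoY_mat⟩

theorem inJ1_chain {c len w : ℕ} (h0 : get 196 c 0 = oneCode)
    (hstep : ∀ i : Fin len, (w.testBit i = false ∧ ok (get 196 c i) codeX (get 196 c (i + 1))) ∨
      (w.testBit i = true ∧ ok (get 196 c i) codeY (get 196 c (i + 1)))) :
    ∀ i ≤ len, InJ1 (get 196 c i) := by
  intro i
  induction i with
  | zero => intro _; rw [h0]; exact inJ1_one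
  | succ i ih =>
    intro hi
    rcases hstep ⟨i, by omega⟩ with ⟨-, h⟩ | ⟨-, h⟩
    · exact inJ1_mul (ih (by omega)) inJ1_X h
    · exact inJ1_mul (ih (by omega)) inJ1_Y h

theorem inJ1_A : InJ1 codeA :=
  chainA_ok.2.1 ▸ inJ1_chain chainA_ok.1 chainA_ok.2.2 lenA le_rfl

theorem inJ1_B : InJ1 codeB :=
  chainB_ok.2.1 ▸ inJ1_chain chainB_ok.1 chainB_ok.2.2 lenB le_rfl

/-- Induction along the spanning tree of the subgroup of order 660. -/
theorem h_induction {P : ℕ → Prop} (h0 : P 0)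
    (hA : ∀ i < 660, P i → P (hMulA i)) (hB : ∀ i < 660, P i → P (hMulB i)) :
    ∀ i < 660, P i := by
  intro i
  induction i using Nat.strong_induction_on with
  | _ i ih =>
    intro hi
    by_cases hi0 : i = 0
    · exact hi0 ▸ h0
    obtain ⟨hlt, h⟩ := hPar_ok ⟨i, hi⟩ hi0
    simp only at hlt h
    rcases h with ⟨-, h⟩ | ⟨-, h⟩ <;> rw [← h]
    · exact hA _ (by omega) (ih _ hlt (by omega))
    · exact hB _ (by omega) (ih _ hlt (by omega))

theorem inJ1_h : ∀ i < 660, InJ1 (hCode i) :=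
  h_induction (hTab_zero.1 ▸ inJ1_one)
    (fun i hi h => inJ1_mul h inJ1_A (hTab_ok ⟨i, hi⟩).2.2.1)
    (fun i hi h => inJ1_mul h inJ1_B (hTab_ok ⟨i, hi⟩).2.2.2)

theorem inJ1_t : ∀ j < 266, InJ1 (tCode j) := by
  intro j
  induction j using Nat.strong_induction_on with
  | _ j ih =>
    intro hj
    by_cases hj0 : j = 0
    · exact hj0 ▸ hTab_zero.2 ▸ inJ1_one
    obtain ⟨hlt, h⟩ := tPar_ok ⟨j, hj⟩ hj0
    simp only at hlt h
    rcases h with ⟨-, h⟩ | ⟨-, h⟩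
    · exact inJ1_mul (ih _ hlt (by omega)) inJ1_X h
    · exact inJ1_mul (ih _ hlt (by omega)) inJ1_Y h

/-- The table of the subgroup is closed under products. -/
theorem h_mul : ∀ k < 660, ∀ i < 660, ∃ l < 660, mat (hCode i) * mat (hCode k) = mat (hCode l) := by
  refine h_induction ?_ ?_ ?_
  · intro i hi; exact ⟨i, hi, by rw [hTab_zero.1, mat_one, mul_one]⟩
  · intro k hk h i hi
    obtain ⟨l, hl, e⟩ := h i hi
    exact ⟨hMulA l, (hTab_ok ⟨l, hl⟩).1, by
      rw [← mat_mul (hTab_ok ⟨k, hk⟩).2.2.1, ← mul_assoc, e, mat_mul (hTab_ok ⟨l, hl⟩).2.2.1]⟩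
  · intro k hk h i hi
    obtain ⟨l, hl, e⟩ := h i hi
    exact ⟨hMulB l, (hTab_ok ⟨l, hl⟩).2.1, by
      rw [← mat_mul (hTab_ok ⟨k, hk⟩).2.2.2, ← mul_assoc, e, mat_mul (hTab_ok ⟨l, hl⟩).2.2.2]⟩

/-- Every element lies in one of the cosets. -/
theorem exists_ht {z : GM} (hz : z ∈ Cfsg.Spor.J1) :
    ∃ h < 660, ∃ j < 266, (z : Mat) = mat (hCode h) * mat (tCode j) := by
  let T : Set GM := {z | ∃ h < 660, ∃ j < 266, (z : Mat) = mat (hCode h) * mat (tCode j)}
  have hs : ∀ y ∈ ({jankoX, jankoY} : Set GM), ∀ g ∈ T, g * y ∈ T := by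
    rintro y (rfl | rfl) g ⟨h, hh, j, hj, e⟩
    · obtain ⟨h1, h2, h3, h4⟩ := tX_ok ⟨j, hj⟩
      obtain ⟨l, hl, el⟩ := h_mul _ h1 h hh
      exact ⟨l, hl, _, h2, by
        rw [Units.val_mul, e, jankoX_mat, mul_assoc, mat_mul h3, ← mat_mul h4, ← mul_assoc, el]⟩
    · obtain ⟨h1, h2, h3, h4⟩ := tY_ok ⟨j, hj⟩
      obtain ⟨l, hl, el⟩ := h_mul _ h1 h hh
      exact ⟨l, hl, _, h2, by
        rw [Units.val_mul, e, jankoY_mat, mul_assoc, mat_mul h3, ← mat_mul h4, ← mul_assoc, el]⟩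
  have hpow : ∀ y ∈ ({jankoX, jankoY} : Set GM), ∀ (n : ℕ), ∀ g ∈ T, g * y ^ n ∈ T := by
    intro y hy n
    induction n with
    | zero => intro g hg; rwa [pow_zero, mul_one]
    | succ n ih => intro g hg; rw [pow_succ, ← mul_assoc]; exact hs y hy _ (ih g hg)
  show z ∈ T
  induction hz using Subgroup.closure_induction_right with
  | one => exact ⟨0, by omega, 0, by omega, by rw [hTab_zero.1, hTab_zero.2, mat_one, one_mul]; rfl⟩
  | mul_right x _ y hy hxy => exact hs y hy _ hxy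
  | mul_inv_cancel x _ y hy hxy =>
    have hinv : y⁻¹ = y ^ (orderOf y - 1) := by
      apply inv_eq_of_mul_eq_one_right
      rw [← pow_succ', Nat.sub_add_cancel (orderOf_pos y), pow_orderOf_eq_one]
    rw [hinv]; exact hpow y hy _ _ hxy

theorem card_le : Nat.card Cfsg.Spor.J1 ≤ 175560 := by
  choose f hf g hg hfg using fun z : Cfsg.Spor.J1 => exists_ht z.2
  have hinj : Function.Injective
      (fun z : Cfsg.Spor.J1 => ((⟨f z, hf z⟩, ⟨g z, hg z⟩) : Fin 660 × Fin 266)) := by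
    intro a b hab
    simp only [Prod.mk.injEq, Fin.mk.injEq] at hab
    exact Subtype.ext (Units.ext (by rw [hfg a, hfg b, hab.1, hab.2]))
  have := Nat.card_le_card_of_injective _ hinj
  simpa using this

end CfsgLib.J1
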