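import Cfsg.Agent.Lib.J1.Elems
import Cfsg.Agent.Lib.J1.InvolData

/-!
The centralizer of an involution in the first Janko group.
-/

set_option autoImplicit false
set_option linter.style.haveILetI false

namespace CfsgLib.J1

open CentData Equiv

abbrev K := Fin cent2.nC

/-- Image of a point. -/
def pimg (k : ℕ) (i : Fin 5) : Fin 5 := ⟨(get 32 invPerm k >>> (4 * i.val)) % 16 % 5, Nat.mod_lt _ (by omega)⟩

/-- The sign. -/
def psgn (k : ℕ) : ZMod 2 := (get 16 invSign k : ℕ)

theorem cent2_nC : cent2.nC = 120 := rfl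

theorem inv_tables : invGenA < 120 ∧ invGenB < 120 ∧ get 16 invSeq 0 = cent2.one ∧
    (∀ j : Fin 120, get 16 invPos j < 120 ∧ get 16 invSeq (get 16 invPos j) = j.val ∧ get 16 invSeq j < 120 ∧
      (j.val ≠ 0 → get 32 invPar j % 2 ^ 16 < j.val ∧
        ((get 32 invPar j / 2 ^ 16 = 0 ∧ get 16 invMulA (get 16 invSeq (get 32 invPar j % 2 ^ 16)) = get 16 invSeq j) ∨
          (get 32 invPar j / 2 ^ 16 ≠ 0 ∧ get 16 invMulB (get 16 invSeq (get 32 invPar j % 2 ^ 16)) = get 16 invSeq j)))) ∧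
    psgn cent2.one = 0 ∧ ∀ i : Fin 5, pimg cent2.one i = i := by
  decide +kernel

theorem mulA_ok : ∀ k : Fin 120, get 16 invMulA k < 120 ∧
    ok (cent2.C k) (cent2.C invGenA) (cent2.C (get 16 invMulA k)) ∧
    psgn (get 16 invMulA k) = psgn k + psgn invGenA ∧
    ∀ i : Fin 5, pimg (get 16 invMulA k) i = pimg k (pimg invGenA i) := by
  decide +kernel

theorem mulB_ok : ∀ k : Fin 120, get 16 invMulB k < 120 ∧
    ok (cent2.C k) (cent2.C invGenB) (cent2.C (get 16 invMulB k)) ∧
    psgn (get 16 invMulB k) = psgn k + psgn invGenB ∧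
    ∀ i : Fin 5, pimg (get 16 invMulB k) i = pimg k (pimg invGenB i) := by
  decide +kernel

theorem distinct : ∀ k l : Fin 120, cent2.C k = cent2.C l → k = l := by decide +kernel

theorem perm_inj : ∀ k l : Fin 120, psgn k = psgn l → (∀ i : Fin 5, pimg k i = pimg l i) → k = l := by
  decide +kernel

theorem perm_bij : ∀ k : Fin 120, ∀ i j : Fin 5, pimg k i = pimg k j → i = j := by decide +kernel

/-- The permutation attached to an element. -/
noncomputable def pperm (k : K) : Perm (Fin 5) :=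
  Equiv.ofBijective (pimg k) (Finite.injective_iff_bijective.mp fun i j h => perm_bij k i j h)

theorem pperm_apply (k : K) (i : Fin 5) : pperm k i = pimg k i := rfl

theorem canonC (k : K) : Canon (cent2.C k) :=
  canon_of_ok (cent2_goodC.2.2.2.2 k).2.2.1

theorem product (k : Fin 120) : ∀ j < 120, ∃ m : Fin 120,
    mat (cent2.C k) * mat (cent2.C (get 16 invSeq j)) = mat (cent2.C m) ∧
    psgn m = psgn k + psgn (get 16 invSeq j) ∧
    ∀ i : Fin 5, pimg m i = pimg k (pimg (get 16 invSeq j) i) := by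
  obtain ⟨ha, hb, h0, hj, hs, hp⟩ := inv_tables
  intro j
  induction j using Nat.strong_induction_on with
  | _ j ih =>
    intro hlt
    by_cases hj0 : j = 0
    · subst hj0
      refine ⟨k, ?_, ?_, fun i => ?_⟩
      · rw [h0, cent2_goodC.2.2.1, mat_one, mul_one]
      · rw [h0, hs, add_zero]
      · rw [h0, hp]
    obtain ⟨-, -, -, hpar⟩ := hj ⟨j, hlt⟩
    obtain ⟨hplt, hcase⟩ := hpar hj0
    simp only at hplt hcase
    set p := get 32 invPar j % 2 ^ 16
    obtain ⟨m, hm, hms, hmp⟩ := ih p hplt (by omega)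
    obtain ⟨-, -, hq, -⟩ := hj ⟨p, by omega⟩
    rcases hcase with ⟨-, e⟩ | ⟨-, e⟩
    · obtain ⟨h1, h2, h3, h4⟩ := mulA_ok m
      obtain ⟨-, h2', h3', h4'⟩ := mulA_ok ⟨_, hq⟩
      rw [← e]
      refine ⟨⟨_, h1⟩, ?_, ?_, fun i => ?_⟩
      · rw [← mat_mul h2', ← mul_assoc, hm, mat_mul h2]
      · rw [h3, h3', hms, add_assoc]
      · rw [h4, hmp, h4']
    · obtain ⟨h1, h2, h3, h4⟩ := mulB_ok m
      obtain ⟨-, h2', h3', h4'⟩ := mulB_ok ⟨_, hq⟩
      rw [← e]
      refine ⟨⟨_, h1⟩, ?_, ?_, fun i => ?_⟩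
      · rw [← mat_mul h2', ← mul_assoc, hm, mat_mul h2]
      · rw [h3, h3', hms, add_assoc]
      · rw [h4, hmp, h4']

theorem product' (k l : Fin 120) : ∃ m : Fin 120,
    mat (cent2.C k) * mat (cent2.C l) = mat (cent2.C m) ∧
    psgn m = psgn k + psgn l ∧ ∀ i : Fin 5, pimg m i = pimg k (pimg l i) := by
  obtain ⟨h1, h2, -⟩ := inv_tables.2.2.2.1 l
  have h := product k _ h1
  rwa [h2] at h

/-- The involution. -/
noncomputable abbrev tInv : J := elem cent2_good

abbrev Cen : Subgroup J := Subgroup.centralizer ({tInv} : Set J)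

theorem idx_exists (z : Cen) : ∃ k : Fin 120, matJ z = mat (cent2.C k) :=
  mem_list cent2_good (Subgroup.mem_centralizer_iff.mp z.2 tInv rfl).symm

/-- Position in the list. -/
noncomputable def idx (z : Cen) : Fin 120 := (idx_exists z).choose

theorem idx_spec (z : Cen) : matJ z = mat (cent2.C (idx z)) := (idx_exists z).choose_spec

theorem idx_eq (z : Cen) (k : Fin 120) (h : matJ z = mat (cent2.C k)) : idx z = k :=
  distinct _ _ (mat_inj (canonC _) (canonC _) ((idx_spec z).symm.trans h))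

theorem idx_mul (a b : Cen) : psgn (idx (a * b)) = psgn (idx a) + psgn (idx b) ∧
    ∀ i : Fin 5, pimg (idx (a * b)) i = pimg (idx a) (pimg (idx b) i) := by
  obtain ⟨m, hm, hs, hp⟩ := product' (idx a) (idx b)
  have e : idx (a * b) = m := idx_eq _ _ (by rw [Subgroup.coe_mul, matJ_mul, idx_spec a, idx_spec b, hm])
  rw [e]; exact ⟨hs, hp⟩

/-- The identification map. -/
noncomputable def psi : Cen →* Multiplicative (ZMod 2) × Perm (Fin 5) :=
  MonoidHom.mk' (fun z => (Multiplicative.ofAdd (psgn (idx z)), pperm (idx z))) fun a b => by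
    obtain ⟨h1, h2⟩ := idx_mul a b
    refine Prod.ext ?_ (Equiv.ext fun i => ?_)
    · show Multiplicative.ofAdd _ = Multiplicative.ofAdd _ * Multiplicative.ofAdd _
      rw [h1]; rfl
    · show pimg _ i = pimg _ (pimg _ i)
      exact h2 i

theorem psi_injective : Function.Injective psi := by
  intro a b h
  obtain ⟨h1, h2⟩ := Prod.ext_iff.mp h
  have e : idx a = idx b := perm_inj _ _ (congrArg Multiplicative.toAdd h1) fun i =>
    congrArg (fun σ : Perm (Fin 5) => σ i) h2
  exact Subtype.ext (matJ_inj (by rw [idx_spec a, idx_spec b, e]))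

theorem self_central : ∀ k : Fin 120, ∀ i j : Fin 7,
    (∑ r : Fin 7, dg (cent2.C k) i r * dg cent2.g r j) % 11 = (∑ r : Fin 7, dg cent2.g i r * dg (cent2.C k) r j) % 11 := by
  decide +kernel

theorem commutes_self (k : Fin 120) : mat (cent2.C k) * mat cent2.g = mat cent2.g * mat (cent2.C k) := by
  ext i j
  have := congrArg (fun n : ℕ => (n : ZMod 11)) (self_central k i j)
  simp only [ZMod.natCast_mod, Nat.cast_sum, Nat.cast_mul] at this
  simpa [mat, Matrix.mul_apply] using this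

theorem card_cen : Nat.card Cen = 120 := by
  rw [← Nat.card_fin 120]
  refine Nat.card_eq_of_bijective idx ⟨fun a b e => Subtype.ext (matJ_inj (by rw [idx_spec a, idx_spec b, e])), ?_⟩
  intro k
  obtain ⟨z, hz, ez⟩ := inJ1_C cent2_good k
  have hmem : (⟨z, hz⟩ : J) ∈ Cen := by
    refine Subgroup.mem_centralizer_singleton_iff.mpr (matJ_inj ?_)
    rw [matJ_mul, matJ_mul]
    rw [show matJ tInv = mat cent2.g from elem_mat cent2_good, show matJ ⟨z, hz⟩ = mat (cent2.C k) from ez]
    exact commutes_self k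
  exact ⟨⟨⟨z, hz⟩, hmem⟩, idx_eq _ _ ez⟩

theorem pimg_even : ∀ k : Fin 120, ∃ σ : Perm (Fin 5), Perm.sign σ = 1 ∧ ∀ i, σ i = pimg k i := by
  decide +kernel

end CfsgLib.J1
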