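import Cfsg.Agent.Lib.J1.OutData
import Cfsg.Agent.Lib.J1.Elems
import Cfsg.Agent.Lib.J1.Invol

/-!
Certificates for the automorphisms of the first Janko group.
-/

set_option autoImplicit false

namespace CfsgLib.J1.OutCert

open CfsgLib.J1 CentData

/-- a chain of products with two factors to choose from -/
def chainOK (A B : ℕ) (w : List Bool) (c : List ℕ) (target : ℕ) : Prop :=
  c.getD 0 0 = oneCode ∧ c.getD w.length 0 = target ∧
    ∀ i : Fin w.length, ok (c.getD i 0) (if w.getD i false then B else A) (c.getD (i + 1) 0)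

instance (A B : ℕ) (w : List Bool) (c : List ℕ) (t : ℕ) : Decidable (chainOK A B w c t) := by
  unfold chainOK; infer_instance

theorem words_ok : chainOK codeX codeY xWord xChain xC ∧ chainOK codeX codeY gWord gChain gC ∧
    chainOK xC zC genXWord genXChain codeX ∧ chainOK xC zC genYWord genYChain codeY := by
  decide +kernel

theorem pows_ok : (xPow.getD 0 0 = oneCode ∧ xPow.getD 1 0 = xC ∧ xPow.getD 11 0 = oneCode ∧
    ∀ i : Fin 11, ok (xPow.getD i 0) xC (xPow.getD (i + 1) 0)) ∧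
    (yPow.getD 0 0 = oneCode ∧ yPow.getD 1 0 = yC ∧ yPow.getD 5 0 = cent2.g ∧
    yPow.getD 6 0 = uC ∧ ∀ i : Fin 10, ok (yPow.getD i 0) yC (yPow.getD (i + 1) 0)) := by
  decide +kernel

theorem mem_ok : cent2.C 16 = yC ∧ cent2.C 26 = zC ∧ cent2.C 17 = uC ∧ cent2.nC = 120 ∧
    xC ≠ oneCode ∧ cent2.one = 0 ∧ cent11.nC = 11 := by
  decide +kernel

theorem prods_ok : ok yC xC yxC ∧ ok (xPow.getD 6 0) yC yxC ∧ ok gC zC gzC ∧ ok zC gC gzC ∧
    ok gC (xPow.getD 10 0) gxC ∧ ok xC gC gxC := by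
  decide +kernel

theorem cent11_powers : ∀ k : Fin 11, ∃ e : Fin 11, cent11.power cent11.self e = k.val ∧
    e.val ≤ cent11.ord cent11.self := by
  decide +kernel

theorem cubes_ok : ∀ k : Fin 120, ok (cent2.C k) (cent2.C k) (cubes.getD (4 * k) 0) ∧
    ok (cubes.getD (4 * k) 0) (cent2.C k) (cubes.getD (4 * k + 1) 0) ∧
    ok uC (cent2.C k) (cubes.getD (4 * k + 2) 0) ∧
    ok (cubes.getD (4 * k + 2) 0) (cubes.getD (4 * k + 2) 0) (cubes.getD (4 * k + 3) 0) ∧
    (cubes.getD (4 * k + 1) 0 ≠ oneCode ∨ cubes.getD (4 * k + 3) 0 ≠ oneCode ∨ k.val = 0 ∨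
      ∃ t ∈ zClass, t.1 = k.val) := by
  decide +kernel

theorem zClass_ok : ∀ t ∈ zClass, t.1 < 120 ∧ t.2.1 < 10 ∧
    ok (cent2.C t.1) (yPow.getD t.2.1 0) t.2.2 ∧ ok (yPow.getD t.2.1 0) zC t.2.2 := by
  decide +kernel

theorem z_ok : cubes.getD (4 * 26 + 1) 0 = oneCode ∧ cubes.getD (4 * 26 + 3) 0 = oneCode ∧
    zC ≠ oneCode := by
  decide +kernel

/-- the exponent used for each multiplier -/
def relExp (k : ℕ) : ℕ := if k = 2 ∨ k = 9 then 2 else 1

theorem rel_ok : (∀ k : Fin 10, ok (xPow.getD ((k.val + 1) * relExp (k.val + 1) % 11) 0) zC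
      (relPow.getD (10 * k) 0) ∧
    (∀ i : Fin 9, ok (relPow.getD (10 * k + i) 0) (relPow.getD (10 * k) 0)
      (relPow.getD (10 * k + i + 1) 0)) ∧
    (k.val = 0 ∨ k.val = 9 ∨ relPow.getD (10 * k + 9) 0 ≠ oneCode)) ∧
    ∀ a : Fin 2, ok (xPow.getD (a.val + 1) 0) zC (relPow.getD (100 + 10 * a) 0) ∧
      (∀ i : Fin 9, ok (relPow.getD (100 + 10 * a + i) 0) (relPow.getD (100 + 10 * a) 0)
        (relPow.getD (100 + 10 * a + i + 1) 0)) ∧
      relPow.getD (100 + 10 * a + 9) 0 = oneCode := by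
  decide +kernel

end CfsgLib.J1.OutCert
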