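import Cfsg.Agent.Lib.J1.Elems
import Cfsg.Prelude.Def_Sporadic

/-!
Simplicity of the first Janko group.
-/

set_option autoImplicit false
set_option linter.style.haveILetI false

namespace CfsgLib.J1

open CentData

theorem gen_ok : (∀ i : Fin 4, get 16 genWH i < 660 ∧ get 16 genWT i < 266 ∧
    ok (hCode (get 16 genWH i)) (tCode (get 16 genWT i)) (get 196 genW i) ∧
    get 16 genK i < cent19.nC ∧ cent19.ord (get 16 genK i) ∣ 19 ∧
    ok (get 196 genC i) (get 196 genW i) (get 196 genP i) ∧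
    ok (get 196 genW i) (cent19.C (get 16 genK i)) (get 196 genP i)) ∧
    ok (get 196 genC 0) (get 196 genC 1) codeX ∧ ok (get 196 genC 2) (get 196 genC 3) codeY := by
  decide +kernel

theorem cent19_ords : ∀ k : Fin cent19.nC, cent19.ord k ∣ 19 := by decide +kernel

theorem gen_elem (i : Fin 4) : ∃ z : J, matJ z = mat (get 196 genC i) ∧ orderOf z ∣ 19 := by
  obtain ⟨h1, h2, h3, h4, h5, h6, h7⟩ := gen_ok.1 i
  obtain ⟨w, hw, ew⟩ := inJ1_mul (inJ1_h _ h1) (inJ1_t _ h2) h3
  obtain ⟨c, hc, ec⟩ := inJ1_C cent19_good ⟨_, h4⟩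
  set u : J := ⟨w, hw⟩
  set v : J := ⟨c, hc⟩
  refine ⟨u * v * u⁻¹, ?_, ?_⟩
  · have hu : matJ u = mat (get 196 genW i) := ew
    have hv : matJ v = mat (cent19.C (get 16 genK i)) := ec
    have key : matJ (u * v * u⁻¹) * matJ u = mat (get 196 genC i) * matJ u := by
      rw [← matJ_mul, inv_mul_cancel_right, matJ_mul, hu, hv, mat_mul h6, mat_mul h7]
    exact (Units.isUnit (u : GM)).mul_right_cancel key
  · rw [show orderOf (u * v * u⁻¹) = orderOf v from (MulAut.conj u).orderOf_eq v, orderOf_matJ,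
      show matJ v = mat (cent19.C (get 16 genK i)) from ec]
    refine dvd_trans (orderOf_dvd_of_pow_eq_one ?_) h5
    obtain ⟨-, -, -, -, -, -, hend, -⟩ := cent19_good.goodC.2.2.2.2 ⟨_, h4⟩
    rw [mat_pow_C cent19_good ⟨_, h4⟩ _ le_rfl, hend, cent19_good.goodC.2.2.1, mat_one]

/-- An element commuting with an element of order nineteen has order dividing nineteen. -/
theorem orderOf_dvd_nineteen {g z : J} (hg : orderOf g = 19) (hz : Commute z g) : orderOf z ∣ 19 := by
  obtain ⟨w, hw⟩ := conj_zpowers (q := 19) (by simp) hg elem19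
  -- move the standard element into the subgroup generated by `g`
  obtain ⟨n, hn⟩ := Subgroup.mem_zpowers_iff.mp hw
  have hc : Commute z (w * elem cent19_good * w⁻¹) := hn ▸ hz.zpow_right n
  have hc' : Commute (w⁻¹ * z * w) (elem cent19_good) := by
    have := hc.map (MulAut.conj w⁻¹)
    simpa [MulAut.conj_apply, mul_assoc] using this
  obtain ⟨k, hk⟩ := orderOf_dvd cent19_good hc'.eq
  have e : orderOf (w⁻¹ * z * w) = orderOf z := by
    simpa [MulAut.conj_apply] using (MulAut.conj w⁻¹).orderOf_eq z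
  exact e ▸ hk.trans (cent19_ords k)

theorem nineteen_dvd_of_ne_bot (N : Subgroup J) [N.Normal] (hN : N ≠ ⊥) : 19 ∣ Nat.card N := by
  by_contra h19
  haveI h19f : Fact (Nat.Prime 19) := ⟨by norm_num⟩
  haveI : Nontrivial N := (Subgroup.nontrivial_iff_ne_bot N).mpr hN
  obtain ⟨q, hq, hqd⟩ := Nat.exists_prime_and_dvd (n := Nat.card N) Finite.one_lt_card.ne'
  haveI := Fact.mk hq
  obtain ⟨P⟩ : Nonempty (Sylow q N) := inferInstance
  have hP0 : (P : Subgroup N) ≠ ⊥ := P.ne_bot_of_dvd_card hqd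
  set Q := (P : Subgroup N).map N.subtype with hQ
  -- the normalizer of the Sylow subgroup contains an element of order nineteen
  have hF : Subgroup.normalizer (Q : Set J) ⊔ N = ⊤ := Sylow.normalizer_sup_eq_top P
  have h19N : 19 ∣ Nat.card (Subgroup.normalizer (Q : Set J)) := by
    have h1 : N.index ∣ Nat.card (Subgroup.normalizer (Q : Set J)) := by
      have h := Subgroup.relIndex_sup_right (Subgroup.normalizer (Q : Set J)) N
      rw [hF, Subgroup.relIndex_top_right] at h
      rw [h]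
      exact Subgroup.index_dvd_card _
    have h2 : 19 ∣ Nat.card N * N.index := by
      rw [Subgroup.card_mul_index, card_eq]; norm_num
    exact (((Nat.Prime.dvd_mul h19f.out).mp h2).resolve_left h19).trans h1
  obtain ⟨⟨g, hgn⟩, hg⟩ := exists_prime_orderOf_dvd_card' 19 h19N
  have hg' : orderOf g = 19 := by rw [← hg]; exact (Subgroup.orderOf_mk _ _).symm
  -- the Sylow subgroup is small
  have hQc : Nat.card Q ∣ 175560 := card_eq ▸ Subgroup.card_subgroup_dvd_card Q
  have hQp : IsPGroup q Q := P.isPGroup'.map N.subtype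
  obtain ⟨a, ha⟩ := IsPGroup.iff_card.mp hQp
  have hQN : Nat.card Q ∣ Nat.card N := Subgroup.card_dvd_of_le (Subgroup.map_subtype_le _)
  have hsmall : Nat.card Q < 19 := by
    rw [ha] at hQc hQN ⊢
    rcases Nat.eq_zero_or_pos a with rfl | hapos
    · norm_num
    have hq2 : q ∣ 175560 := (dvd_pow_self q hapos.ne').trans hQc
    have hq19 : q ≠ 19 := fun e => h19 (e ▸ (dvd_pow_self q hapos.ne').trans hQN)
    have hmem : q ∈ Nat.primeFactors 175560 := Nat.mem_primeFactors.mpr ⟨hq, hq2, by norm_num⟩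
    have hle : q ^ a ∣ 2 ^ 3 ∨ q ^ a ∣ 3 ∨ q ^ a ∣ 5 ∨ q ^ a ∣ 7 ∨ q ^ a ∣ 11 := by
      have hcop : ∀ {r : ℕ}, r.Prime → q ≠ r → (q ^ a).Coprime r := fun hr hne =>
        ((Nat.coprime_primes hq hr).mpr hne).pow_left a
      have c19 : (q ^ a).Coprime 19 := hcop h19f.out hq19
      have h' : q ^ a ∣ 2 ^ 3 * 3 * 5 * 7 * 11 := c19.dvd_of_dvd_mul_right (by norm_num; exact hQc)
      by_cases e11 : q = 11
      · subst e11
        exact Or.inr (Or.inr (Or.inr (Or.inr (Nat.Coprime.dvd_of_dvd_mul_left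
          ((by norm_num : Nat.Coprime 11 (2 ^ 3 * 3 * 5 * 7)).pow_left a) h'))))
      have h7 := (hcop (by norm_num) e11).dvd_of_dvd_mul_right h'
      by_cases e7 : q = 7
      · subst e7
        exact Or.inr (Or.inr (Or.inr (Or.inl (Nat.Coprime.dvd_of_dvd_mul_left
          ((by norm_num : Nat.Coprime 7 (2 ^ 3 * 3 * 5)).pow_left a) h7))))
      have h5 := (hcop (by norm_num) e7).dvd_of_dvd_mul_right h7
      by_cases e5 : q = 5
      · subst e5
        exact Or.inr (Or.inr (Or.inl (Nat.Coprime.dvd_of_dvd_mul_left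
          ((by norm_num : Nat.Coprime 5 (2 ^ 3 * 3)).pow_left a) h5)))
      have h3 := (hcop (by norm_num) e5).dvd_of_dvd_mul_right h5
      by_cases e3 : q = 3
      · subst e3
        exact Or.inr (Or.inl (Nat.Coprime.dvd_of_dvd_mul_left
          ((by norm_num : Nat.Coprime 3 (2 ^ 3)).pow_left a) h3))
      exact Or.inl ((hcop (by norm_num) e3).dvd_of_dvd_mul_right h3)
    rcases hle with h | h | h | h | h <;>
      exact lt_of_le_of_lt (Nat.le_of_dvd (by norm_num) h) (by norm_num)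
  -- so it is centralised
  have hfix : ∀ x ∈ Q, Commute x g := by
    intro x hx
    let σ : Equiv.Perm Q :=
      { toFun := fun y => ⟨g * y * g⁻¹, (Subgroup.mem_normalizer_iff.mp hgn y).mp y.2⟩
        invFun := fun y => ⟨g⁻¹ * y * g, by
          have h := (Subgroup.mem_normalizer_iff.mp (inv_mem hgn) (y : J)).mp y.2
          simpa using h⟩
        left_inv := fun y => Subtype.ext (by simp [mul_assoc])
        right_inv := fun y => Subtype.ext (by simp [mul_assoc]) }
    have hval : ∀ (n : ℕ) (y : Q), ((σ ^ n) y : J) = g ^ n * y * (g ^ n)⁻¹ := by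
      intro n
      induction n with
      | zero => intro y; simp
      | succ n ih =>
        intro y
        rw [pow_succ', Equiv.Perm.mul_apply]
        show g * ((σ ^ n) y : J) * g⁻¹ = _
        rw [ih, pow_succ']; group
    have hσ : σ ^ 19 = 1 := by
      ext y
      rw [hval, ← hg', pow_orderOf_eq_one]; simp
    rcases (Nat.dvd_prime h19f.out).mp (orderOf_dvd_of_pow_eq_one hσ) with h | h
    · have h1 : σ = 1 := orderOf_eq_one_iff.mp h
      have := congrArg (fun τ : Equiv.Perm Q => (τ ⟨x, hx⟩ : J)) h1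
      simp only [Equiv.Perm.one_apply] at this
      exact (mul_inv_eq_iff_eq_mul.mp this).symm
    · classical
      haveI : Fintype Q := Fintype.ofFinite _
      have hd : 19 ∣ (Fintype.card Q).factorial :=
        Fintype.card_perm (α := Q) ▸ h ▸ orderOf_dvd_card
      rw [Nat.Prime.dvd_factorial h19f.out, ← Nat.card_eq_fintype_card] at hd
      omega
  obtain ⟨x, hx, hx1⟩ := Subgroup.bot_or_exists_ne_one Q |>.resolve_left
    (fun e => hP0 (Subgroup.map_eq_bot_iff_of_injective _ N.subtype_injective |>.mp e))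
  have h1 := orderOf_dvd_nineteen hg' (hfix x hx)
  rcases (Nat.dvd_prime h19f.out).mp h1 with h | h
  · exact hx1 (orderOf_eq_one_iff.mp h)
  · apply h19
    have : orderOf x ∣ Nat.card N := by
      rw [← Subgroup.orderOf_mk x (Subgroup.map_subtype_le _ hx)]
      exact orderOf_dvd_natCard _
    rwa [h] at this

theorem isSimple : IsSimpleGroup J := by
  haveI : Nontrivial J := Finite.one_lt_card_iff_nontrivial.mp (by rw [card_eq]; norm_num)
  refine ⟨fun N hN => or_iff_not_imp_left.mpr fun h0 => ?_⟩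
  haveI := hN
  haveI h19f : Fact (Nat.Prime 19) := ⟨by norm_num⟩
  obtain ⟨⟨g, hgN⟩, hg⟩ := exists_prime_orderOf_dvd_card' 19 (nineteen_dvd_of_ne_bot N h0)
  have hg' : orderOf g = 19 := by rw [← hg]; exact (Subgroup.orderOf_mk _ _).symm
  have hall : ∀ z : J, orderOf z ∣ 19 → z ∈ N := by
    intro z hz
    rcases (Nat.dvd_prime h19f.out).mp hz with h | h
    · rw [orderOf_eq_one_iff.mp h]; exact N.one_mem
    obtain ⟨w, hw⟩ := conj_zpowers (q := 19) (by simp) hg' h
    have h1 : w * z * w⁻¹ ∈ N := Subgroup.zpowers_le.mpr hgN hw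
    have h2 := hN.conj_mem _ h1 w⁻¹
    simpa [mul_assoc] using h2
  obtain ⟨c0, e0, o0⟩ := gen_elem 0
  obtain ⟨c1, e1, o1⟩ := gen_elem 1
  obtain ⟨c2, e2, o2⟩ := gen_elem 2
  obtain ⟨c3, e3, o3⟩ := gen_elem 3
  have hX : c0 * c1 = ⟨Cfsg.Spor.jankoX, jankoX_mem⟩ := matJ_inj <| by
    rw [matJ_mul, e0, e1]
    exact (mat_mul gen_ok.2.1).trans jankoX_mat.symm
  have hY : c2 * c3 = ⟨Cfsg.Spor.jankoY, jankoY_mem⟩ := matJ_inj <| by
    rw [matJ_mul, e2, e3]
    exact (mat_mul gen_ok.2.2).trans jankoY_mat.symm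
  have hle : Cfsg.Spor.J1 ≤ N.map Cfsg.Spor.J1.subtype := by
    refine (Subgroup.closure_le _).mpr ?_
    rintro m (rfl | rfl)
    · exact ⟨_, hX ▸ mul_mem (hall _ o0) (hall _ o1), rfl⟩
    · exact ⟨_, hY ▸ mul_mem (hall _ o2) (hall _ o3), rfl⟩
  refine eq_top_iff.mpr fun z _ => ?_
  obtain ⟨y, hy, e⟩ := hle z.2
  exact Subtype.ext e ▸ hy

theorem isJ1 : Cfsg.IsJ1 J := ⟨isSimple, card_eq⟩

end CfsgLib.J1
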